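import Mathlib.RingTheory.ZariskisMainTheorem

/-!
# Lifting idempotents to the integral closure along Zariski's main theorem
-/

set_option linter.style.haveILetI false

universe u

namespace GrothLib.IdemLiftZMT

variable {A B C : Type u} [CommRing A] [CommRing B] [CommRing C] [Algebra A B] [Algebra A C]
  [Algebra.FiniteType A B] [Module.Finite A C]

theorem quasiFiniteAt (I : Ideal A) (π : B →ₐ[A] C) (hπ : Function.Surjective π)
    (hI : ∀ b ∈ I.map (algebraMap A B), π b = 0) {e : B} (he : π e = 1)
    (hker : ∀ b, π b = 0 → e * b ∈ I.map (algebraMap A B))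
    (q₁ : Ideal C) [q₁.IsPrime] : Algebra.QuasiFiniteAt A (q₁.comap π.toRingHom) := by
  have : Algebra.QuasiFiniteAt A q₁ :=
    inferInstanceAs (Algebra.QuasiFinite A (Localization q₁.primeCompl))
  set p := q₁.comap (algebraMap A C) with hp
  have : q₁.LiesOver p := ⟨rfl⟩
  obtain ⟨s, hs, hs'⟩ := Ideal.exists_not_mem_forall_mem_of_ne_of_liesOver p q₁
  obtain ⟨h, rfl⟩ := hπ s
  set q := q₁.comap π.toRingHom with hq
  have hqp : q.comap (algebraMap A B) = p := by
    rw [hq, Ideal.comap_comap, hp]; congr 1; exact RingHom.ext π.commutes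
  have hIp : I ≤ p := fun a ha => by
    rw [← hqp, hq, Ideal.mem_comap, Ideal.mem_comap]
    show π (algebraMap A B a) ∈ q₁
    rw [hI _ (Ideal.mem_map_of_mem _ ha)]
    exact zero_mem _
  refine Algebra.QuasiFiniteAt.of_isOpen_singleton_fiber ⟨q, inferInstance⟩ ?_
  have : ({⟨⟨q, inferInstance⟩, rfl⟩} : Set (PrimeSpectrum.comap (algebraMap A B) ⁻¹'
      {PrimeSpectrum.comap (algebraMap A B) ⟨q, inferInstance⟩})) =
      Subtype.val ⁻¹' (PrimeSpectrum.basicOpen (e * h) : Set (PrimeSpectrum B)) := by
    ext ⟨q', hq'⟩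
    simp only [Set.mem_singleton_iff, Set.mem_preimage, SetLike.mem_coe,
      PrimeSpectrum.mem_basicOpen, Subtype.mk.injEq]
    constructor
    · rintro rfl hmem
      have : π (e * h) ∈ q₁ := hmem
      rw [map_mul, he, one_mul] at this
      exact hs this
    · intro hne
      have he' : e ∉ q'.asIdeal := fun h' => hne (Ideal.mul_mem_right _ _ h')
      have hh' : h ∉ q'.asIdeal := fun h' => hne (Ideal.mul_mem_left _ _ h')
      have hp' : q'.asIdeal.comap (algebraMap A B) = p :=
        (congrArg PrimeSpectrum.asIdeal hq').trans hqp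
      have hIq : I.map (algebraMap A B) ≤ q'.asIdeal :=
        Ideal.map_le_iff_le_comap.2 (hp'.symm ▸ hIp)
      have hk : RingHom.ker π.toRingHom ≤ q'.asIdeal := fun b hb =>
        (q'.isPrime.mem_or_mem (hIq (hker b hb))).resolve_left he'
      have hsurj : Function.Surjective π.toRingHom := hπ
      have : (q'.asIdeal.map π.toRingHom).IsPrime := Ideal.map_isPrime_of_surjective hsurj hk
      have hcm : (q'.asIdeal.map π.toRingHom).comap π.toRingHom = q'.asIdeal := by
        rw [Ideal.comap_map_of_surjective _ hsurj, sup_eq_left]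
        exact hk
      by_contra hne'
      refine hh' ?_
      rw [← hcm, Ideal.mem_comap]
      refine hs' _ inferInstance (fun heq => hne' ?_) ⟨?_⟩
      · apply PrimeSpectrum.ext
        show q'.asIdeal = q
        rw [← hcm, heq]
      · rw [← hp', Ideal.under_def]
        conv_lhs => rw [← hcm, Ideal.comap_comap]
        congr 1
        exact RingHom.ext π.commutes
  rw [this]
  exact (PrimeSpectrum.basicOpen (e * h)).isOpen.preimage continuous_subtype_val

/-- Lifting of an idempotent to the integral closure. -/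
theorem exists_idempotent (I : Ideal A) (π : B →ₐ[A] C) (hπ : Function.Surjective π)
    (hI : ∀ b ∈ I.map (algebraMap A B), π b = 0) {e : B} (he : π e = 1)
    (hker : ∀ b, π b = 0 → e * b ∈ I.map (algebraMap A B)) :
    ∃ g : integralClosure A B,
      g * g - g ∈ I.map (algebraMap A (integralClosure A B)) ∧
      (g : B) - e ∈ I.map (algebraMap A B) ∧
      Function.Bijective (Localization.awayMap (integralClosure A B).val.toRingHom g) := by
  set B' := integralClosure A B
  let c (x : B) : Ideal B' :=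
    { carrier := {z | (z : B) * x ∈ B'}
      add_mem' := fun ha hb => by
        simp only [Set.mem_setOf_eq, Subalgebra.coe_add, add_mul] at *
        exact add_mem ha hb
      zero_mem' := by simp
      smul_mem' := fun r z hz => by
        simp only [Set.mem_setOf_eq, smul_eq_mul, Subalgebra.coe_mul, mul_assoc] at *
        exact mul_mem r.2 hz }
  have hc : ∀ x (z : B'), z ∈ c x ↔ (z : B) * x ∈ B' := fun _ _ => Iff.rfl
  let U : Ideal B' := ⨅ x, (c x).radical
  have hU : ∀ z ∈ U, ∀ x : B, ∃ m : ℕ, (z : B) ^ m * x ∈ B' := by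
    intro z hz x
    obtain ⟨m, hm⟩ := (Submodule.mem_iInf _).1 hz x
    refine ⟨m, ?_⟩
    have := (hc x _).1 hm
    rwa [Subalgebra.coe_pow] at this
  let J : Ideal B' := RingHom.ker (π.comp B'.val).toRingHom
  have htop : J ⊔ U = ⊤ := by
    by_contra hne
    obtain ⟨M, hM, hle⟩ := Ideal.exists_le_maximal _ hne
    letI : Algebra B' C := (π.comp B'.val).toRingHom.toAlgebra
    haveI : IsScalarTower A B' C :=
      IsScalarTower.of_algebraMap_eq fun a => (π.commutes a).symm
    haveI : Algebra.IsIntegral A C := Algebra.IsIntegral.of_finite A C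
    haveI : Algebra.IsIntegral B' C := Algebra.IsIntegral.tower_top A
    obtain ⟨q₁, -, hq₁, hq₁M⟩ := Ideal.exists_ideal_over_prime_of_isIntegral (S := C) M ⊥ (by
      rw [← RingHom.ker_eq_comap_bot]; exact le_sup_left.trans hle)
    haveI := hq₁
    haveI := quasiFiniteAt I π hπ hI he hker q₁
    obtain ⟨r, hr, hrint, hrx⟩ := Algebra.zariskisMainProperty_iff.1
      (Algebra.ZariskisMainProperty.of_finiteType (R := A) (q₁.comap π.toRingHom))
    have hrU : (⟨r, hrint⟩ : B') ∈ U := (Submodule.mem_iInf _).2 fun x => by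
      obtain ⟨m, hm⟩ := hrx x
      exact ⟨m, (hc x _).2 (by rw [Subalgebra.coe_pow]; exact hm)⟩
    have hrM := hle (Ideal.mem_sup_right hrU)
    rw [← hq₁M] at hrM
    exact hr hrM
  obtain ⟨j, hj, w, hw, hjw⟩ := Submodule.mem_sup.1 ((Ideal.eq_top_iff_one _).1 htop)
  have hπw : π (w : B) = 1 := by
    have h1 : (j : B) + (w : B) = 1 := by rw [← Subalgebra.coe_add, hjw, Subalgebra.coe_one]
    have h2 := congrArg π h1
    rw [map_add, map_one, show π (j : B) = 0 from hj, zero_add] at h2
    exact h2
  obtain ⟨m, hm⟩ := hU w hw e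
  let v : B' := w * ⟨(w : B) ^ m * e, hm⟩
  have hv : v ∈ U := U.mul_mem_right _ hw
  have hI2 : ∀ b, π b = 1 → e * b - e ∈ I.map (algebraMap A B) := fun b hb => by
    have := hker (b - 1) (by rw [map_sub, hb, map_one, sub_self])
    rwa [mul_sub, mul_one] at this
  have hve : (v : B) - e ∈ I.map (algebraMap A B) := by
    have := hI2 ((w : B) ^ (m + 1)) (by rw [map_pow, hπw, one_pow])
    convert this using 1
    simp only [v, Subalgebra.coe_mul]; ring
  have hvv : (v : B) * v - v ∈ I.map (algebraMap A B) := by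
    have h1 := hI2 e he
    have h2 : (v : B) * v - v = ((v : B) - e) * ((v : B) + e - 1) + (e * e - e) := by ring
    rw [h2]
    exact add_mem (Ideal.mul_mem_right _ _ hve) h1
  have key : ∀ z ∈ I.map (algebraMap A B), ∃ (N : ℕ) (t : B'),
      t ∈ I.map (algebraMap A B') ∧ (t : B) = (v : B) ^ N * z := by
    intro z hz
    induction hz using Submodule.span_induction with
    | mem x hx =>
      obtain ⟨a, ha, rfl⟩ := hx
      exact ⟨0, algebraMap A B' a, Ideal.mem_map_of_mem _ ha, by simp⟩
    | zero => exact ⟨0, 0, zero_mem _, by simp⟩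
    | add x y _ _ hx hy =>
      obtain ⟨N, t, ht, hte⟩ := hx
      obtain ⟨N', t', ht', hte'⟩ := hy
      refine ⟨N + N', v ^ N' * t + v ^ N * t', add_mem (Ideal.mul_mem_left _ _ ht)
        (Ideal.mul_mem_left _ _ ht'), ?_⟩
      simp only [Subalgebra.coe_add, Subalgebra.coe_mul, Subalgebra.coe_pow, hte, hte']
      ring
    | smul s x _ hx =>
      obtain ⟨N, t, ht, hte⟩ := hx
      obtain ⟨k, hk⟩ := hU v hv s
      refine ⟨k + N, ⟨(v : B) ^ k * s, hk⟩ * t, Ideal.mul_mem_left _ _ ht, ?_⟩
      simp only [Subalgebra.coe_mul, hte, smul_eq_mul]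
      ring
  obtain ⟨N, t, ht, hte⟩ := key _ hvv
  have ht' : t = v ^ N * (v * v - v) := Subtype.ext (by rw [hte]; simp)
  rw [ht'] at ht
  refine ⟨v ^ (N + 1), ?_, ?_, ?_⟩
  · have : v ^ (N + 1) * v ^ (N + 1) - v ^ (N + 1) =
        v ^ N * (v * v - v) * ∑ i ∈ Finset.range (N + 1), v ^ i := by
      rw [show v * v - v = v * (v - 1) by ring, mul_assoc, mul_assoc, mul_geom_sum]
      ring
    rw [this]
    exact Ideal.mul_mem_right _ _ ht
  · have hpow : ∀ n, (v : B) ^ (n + 1) - v ∈ I.map (algebraMap A B) := fun n => by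
      induction n with
      | zero => simp
      | succ n ih =>
        have := add_mem (Ideal.mul_mem_left _ (v : B) ih) hvv
        convert this using 1
        ring
    have := add_mem (hpow N) hve
    simpa using this
  · refine ⟨IsLocalization.map_injective_of_injective _ _ _ Subtype.val_injective, ?_⟩
    rw [Localization.awayMap_surjective_iff]
    intro x
    obtain ⟨k, hk⟩ := hU v hv x
    refine ⟨⟨((v : B) ^ k) ^ N * ((v : B) ^ k * x), mul_mem (pow_mem (pow_mem v.2 _) _) hk⟩, k, ?_⟩
    show _ = _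
    simp only [AlgHom.toRingHom_eq_coe, RingHom.coe_coe, Subalgebra.coe_val, Subalgebra.coe_pow]
    ring

end GrothLib.IdemLiftZMT
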